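import Groth.Agent.ToposFinLib.CommStep
import Groth.Agent.ToposFinLib.Algebraic2
import Groth.Agent.SiteBase.Cartan
import Groth.Agent.SiteBase.CechInst

/-!
# Cohomology and filtered colimits on a collection of objects with finite coverings
-/

set_option autoImplicit false
set_option backward.isDefEq.respectTransparency false
set_option linter.style.haveILetI false

universe u

open CategoryTheory CategoryTheory.Limits Opposite Abelian Groth.Agent.SiteBase

namespace Groth.Agent.CovColim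

variable {C : Type u} [SmallCategory C] [HasPullbacks C] {J : GrothendieckTopology C}

/-- A collection of objects with enough finite coverings whose iterated fibre products stay inside. -/
structure CovSys (J : GrothendieckTopology C) where
  B : Set C
  Cov : ∀ (U : C) (ι : Type u), (ι → Over U) → Prop
  h1 : ∀ (U : C) (ι : Type u) (Y : ι → Over U), Cov U ι Y → Finite ι ∧ U ∈ B ∧
    Sieve.ofArrows (fun i => (Y i).left) (fun i => (Y i).hom) ∈ J U ∧
    ∀ (p : ℕ) (a : Fin (p + 1) → ι), (∏ᶜ fun k => Y (a k)).left ∈ B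
  h2 : ∀ U ∈ B, ∀ T ∈ J U, ∃ (ι : Type u) (Y : ι → Over U), Cov U ι Y ∧ ∀ i, T.arrows (Y i).hom

variable {I : Type u} [SmallCategory I] [IsFiltered I] (D : I ⥤ Sheaf J AddCommGrpCat.{u})

/-- The class of a section at a stage. -/
noncomputable def cl (i : I) (V : C) : (D.obj i).obj.obj (op V) →+ (colimit D).obj.obj (op V) :=
  ((colimit.ι D i).hom.app (op V)).hom

/-- The transition map on sections. -/
noncomputable def tr {i j : I} (u : i ⟶ j) (V : C) : (D.obj i).obj.obj (op V) →+ (D.obj j).obj.obj (op V) :=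
  ((D.map u).hom.app (op V)).hom

omit [HasPullbacks C] [IsFiltered I] in
lemma tr_res {i j : I} (u : i ⟶ j) {V W : C} (g : W ⟶ V) (a : (D.obj i).obj.obj (op V)) :
    tr D u W (((D.obj i).obj.map g.op).hom a) = ((D.obj j).obj.map g.op).hom (tr D u V a) :=
  NatTrans.naturality_apply (D.map u).hom g.op a

omit [HasPullbacks C] [IsFiltered I] in
lemma cl_res (i : I) {V W : C} (g : W ⟶ V) (a : (D.obj i).obj.obj (op V)) :
    cl D i W (((D.obj i).obj.map g.op).hom a) = ((colimit D).obj.map g.op).hom (cl D i V a) :=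
  NatTrans.naturality_apply (colimit.ι D i).hom g.op a

omit [HasPullbacks C] [IsFiltered I] in
lemma cl_tr {i j : I} (u : i ⟶ j) (V : C) (a : (D.obj i).obj.obj (op V)) :
    cl D j V (tr D u V a) = cl D i V a :=
  congrArg (fun q : D.obj i ⟶ colimit D => (q.hom.app (op V)).hom a) (colimit.w D u)

omit [HasPullbacks C] [IsFiltered I] in
lemma tr_comp {i j k : I} (u : i ⟶ j) (v : j ⟶ k) (V : C) (a : (D.obj i).obj.obj (op V)) :
    tr D v V (tr D u V a) = tr D (u ≫ v) V a := by
  show _ = ((D.map (u ≫ v)).hom.app (op V)).hom a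
  rw [D.map_comp]
  rfl

variable (S : CovSys J)

/-- Elements of a collection of finitely many properties, each true eventually, hold eventually. -/
lemma exists_common {i : I} {κ : Type*} [Finite κ] (P : ∀ (j : I), (i ⟶ j) → κ → Prop)
    (hmono : ∀ (j j' : I) (u : i ⟶ j) (v : j ⟶ j') (k : κ), P j u k → P j' (u ≫ v) k)
    (h : ∀ k, ∃ (j : I) (u : i ⟶ j), P j u k) : ∃ (j : I) (u : i ⟶ j), ∀ k, P j u k := by
  classical
  haveI := Fintype.ofFinite κ
  suffices ∀ s : Finset κ, ∃ (j : I) (u : i ⟶ j), ∀ k ∈ s, P j u k by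
    obtain ⟨j, u, hu⟩ := this Finset.univ
    exact ⟨j, u, fun k => hu k (Finset.mem_univ k)⟩
  intro s
  induction s using Finset.induction with
  | empty => exact ⟨i, 𝟙 i, fun k hk => absurd hk (Finset.notMem_empty k)⟩
  | @insert a s _ ih =>
    obtain ⟨j, u, hu⟩ := ih
    obtain ⟨j', u', hu'⟩ := h a
    obtain ⟨k, v, v', hv⟩ : ∃ (k : I) (v : j ⟶ k) (v' : j' ⟶ k), u ≫ v = u' ≫ v' := by
      obtain ⟨k, v, v', -⟩ : ∃ (k : I) (v : j ⟶ k) (v' : j' ⟶ k), True :=
        ⟨IsFiltered.max j j', IsFiltered.leftToMax j j', IsFiltered.rightToMax j j', trivial⟩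
      exact ⟨IsFiltered.coeq (u ≫ v) (u' ≫ v'), v ≫ IsFiltered.coeqHom _ _, v' ≫ IsFiltered.coeqHom _ _, by
        rw [← Category.assoc, IsFiltered.coeq_condition, Category.assoc]⟩
    refine ⟨k, u ≫ v, fun b hb => ?_⟩
    rcases Finset.mem_insert.1 hb with rfl | hb
    · rw [hv]; exact hmono _ _ _ _ _ hu'
    · exact hmono _ _ _ _ _ (hu b hb)

include S in
/-- Equal classes are equal at a stage. -/
theorem exists_eq_stage {V : C} (hV : V ∈ S.B) {i : I} (a b : (D.obj i).obj.obj (op V))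
    (h : cl D i V a = cl D i V b) : ∃ (j : I) (u : i ⟶ j), tr D u V a = tr D u V b := by
  obtain ⟨T, hT, hT'⟩ := ToposFinLib.locally_eq_at_stage
    (isColimitOfPreserves (ToposFinLib.underlying J) (colimit.isColimit D)) i a b h
  obtain ⟨ι, Y, hY, hYT⟩ := S.h2 V hV T hT
  obtain ⟨hfin, -, hcov, -⟩ := S.h1 V ι Y hY
  obtain ⟨j, u, hu⟩ := exists_common
    (fun j u k => tr D u _ (((D.obj i).obj.map (Y k).hom.op).hom a) = tr D u _ (((D.obj i).obj.map (Y k).hom.op).hom b))
    (fun j j' u v k hk => by rw [← tr_comp, ← tr_comp, hk]) (fun k => by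
      obtain ⟨j, u, hu⟩ := hT' _ (hYT k)
      exact ⟨j, u, hu⟩)
  refine ⟨j, u, ?_⟩
  have hsh := (isSheaf_iff_isSheaf_of_type J _).1
    ((Presheaf.isSheaf_iff_isSheaf_forget J _ (CategoryTheory.forget AddCommGrpCat.{u})).1 (D.obj j).property)
  refine (hsh _ hcov).isSeparatedFor.ext fun W g hg => ?_
  obtain ⟨k, p, rfl⟩ := (Sieve.mem_ofArrows_iff _ _ _).1 hg
  show ((D.obj j).obj.map (p ≫ (Y k).hom).op).hom _ = ((D.obj j).obj.map (p ≫ (Y k).hom).op).hom _
  rw [SiteBase.map_op_comp_apply, SiteBase.map_op_comp_apply]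
  exact congrArg ((D.obj j).obj.map p.op).hom (((tr_res D u (Y k).hom a).symm.trans (hu k)).trans (tr_res D u (Y k).hom b))

include S in
/-- Every section of a colimit comes from a stage. -/
theorem exists_stage {V : C} (hV : V ∈ S.B) (s : (colimit D).obj.obj (op V)) :
    ∃ (i : I) (a : (D.obj i).obj.obj (op V)), cl D i V a = s := by
  classical
  have hcs := ToposFinLib.cov_ι_of_isColimit
    (isColimitOfPreserves (ToposFinLib.underlying J) (colimit.isColimit D)) (U := V) s
  obtain ⟨ι, Y, hY, hYT⟩ := S.h2 V hV _ hcs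
  obtain ⟨hfin, -, hcov, hB⟩ := S.h1 V ι Y hY
  haveI := Fintype.ofFinite ι
  choose i₀ a₀ ha₀ using hYT
  obtain ⟨j₀, hj₀⟩ := IsFiltered.sup_objs_exists (Finset.univ.image i₀)
  let a : ∀ k, (D.obj j₀).obj.obj (op (Y k).left) := fun k =>
    tr D (hj₀ (Finset.mem_image_of_mem i₀ (Finset.mem_univ k))).some _ (a₀ k)
  have ha : ∀ k, cl D j₀ _ (a k) = ((colimit D).obj.map (Y k).hom.op).hom s := fun k =>
    (cl_tr D _ _ _).trans (ha₀ k)
  let c := SiteBase.ctxOver Y
  let P : ∀ k : Fin 2 → ι, C := fun k => (∏ᶜ fun m => Y (k m)).left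
  let pr : ∀ (k : Fin 2 → ι) (m : Fin 2), P k ⟶ (Y (k m)).left := fun k m => (Pi.π (fun m => Y (k m)) m).left
  obtain ⟨j, u, hu⟩ := exists_common (i := j₀) (κ := Fin 2 → ι)
    (fun j u k => tr D u _ (((D.obj j₀).obj.map (pr k 0).op).hom (a (k 0))) =
      tr D u _ (((D.obj j₀).obj.map (pr k 1).op).hom (a (k 1))))
    (fun j j' u v k hk => by rw [← tr_comp, ← tr_comp, hk]) (fun k => by
      refine exists_eq_stage D S (hB 1 k) _ _ ?_
      rw [cl_res, cl_res, ha, ha, ← SiteBase.map_op_comp_apply, ← SiteBase.map_op_comp_apply]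
      exact congrArg (fun g => ((colimit D).obj.map (Quiver.Hom.op g)).hom s) (c.comm k))
  have hsh := (isSheaf_iff_isSheaf_of_type J _).1
    ((Presheaf.isSheaf_iff_isSheaf_forget J _ (CategoryTheory.forget AddCommGrpCat.{u})).1 (D.obj j).property)
  have hcompat : Presieve.Arrows.Compatible ((D.obj j).obj ⋙ CategoryTheory.forget AddCommGrpCat.{u})
      (fun k => (Y k).hom) (fun k => tr D u _ (a k)) := by
    intro k l W g g' hgg'
    obtain ⟨m, hm0, hm1⟩ := c.fact ![k, l] (show W ⟶ (Y k).left from g) g' hgg'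
    have e := congrArg (((D.obj j).obj.map m.op).hom) (hu ![k, l])
    rw [tr_res, tr_res] at e
    replace e := ((SiteBase.map_op_comp_apply (D.obj j).obj m (pr ![k, l] 0) (tr D u _ (a k))).trans e).trans
      (SiteBase.map_op_comp_apply (D.obj j).obj m (pr ![k, l] 1) (tr D u _ (a l))).symm
    show ((D.obj j).obj.map g.op).hom (tr D u _ (a k)) = ((D.obj j).obj.map g'.op).hom (tr D u _ (a l))
    exact (congrArg (fun t => ((D.obj j).obj.map (Quiver.Hom.op t)).hom (tr D u _ (a k))) hm0).symm.trans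
      (e.trans (congrArg (fun t => ((D.obj j).obj.map (Quiver.Hom.op t)).hom (tr D u _ (a l))) hm1))
  obtain ⟨x, hx, -⟩ := (Presieve.isSheafFor_arrows_iff _ _).1
    ((Presieve.isSheafFor_iff_generate _).2 (hsh _ hcov)) _ hcompat
  refine ⟨j, x, ?_⟩
  have hsh' := (isSheaf_iff_isSheaf_of_type J _).1
    ((Presheaf.isSheaf_iff_isSheaf_forget J _ (CategoryTheory.forget AddCommGrpCat.{u})).1 (colimit D).property)
  refine (hsh' _ hcov).isSeparatedFor.ext fun W g hg => ?_
  obtain ⟨k, p, rfl⟩ := (Sieve.mem_ofArrows_iff _ _ _).1 hg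
  show ((colimit D).obj.map (p ≫ (Y k).hom).op).hom _ = ((colimit D).obj.map (p ≫ (Y k).hom).op).hom _
  rw [SiteBase.map_op_comp_apply, SiteBase.map_op_comp_apply, ← cl_res,
    show ((D.obj j).obj.map (Y k).hom.op).hom x = tr D u _ (a k) from hx k, cl_tr, ha]

include S in
/-- Filtered colimits of injectives have no higher Cech cohomology for the coverings. -/
theorem exactAt_cech_colimit (hD : ∀ i, Injective (D.obj i)) {V : C} {ι : Type u} (Y : ι → Over V)
    (hY : S.Cov V ι Y) (p : ℕ) : (cechCx (Over.forget V) Y (colimit D)).ExactAt (p + 1) := by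
  classical
  obtain ⟨hfin, -, hcov, hB⟩ := S.h1 V ι Y hY
  haveI := Fintype.ofFinite ι
  rw [HomologicalComplex.exactAt_iff' _ p (p + 1) (p + 2) (by simp) (by simp), ShortComplex.ab_exact_iff]
  intro x hx
  let P := fun G : Sheaf J AddCommGrpCat.{u} => (Over.forget V).op ⋙ G.obj
  let mapN : ∀ {G G' : Sheaf J AddCommGrpCat.{u}} (f : G ⟶ G'),
      cechCx (Over.forget V) Y G ⟶ cechCx (Over.forget V) Y G' := fun f =>
    (cechComplexFunctor Y).map (Functor.whiskerLeft (Over.forget V).op f.hom)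
  choose i₀ a₀ ha₀ using fun k : Fin (p + 2) → ι => exists_stage D S (hB (p + 1) k) (cev Y (P (colimit D)) (p + 1) k x)
  obtain ⟨j₀, hj₀⟩ := IsFiltered.sup_objs_exists (Finset.univ.image i₀)
  obtain ⟨xj, hxj⟩ := exists_cev Y (P (D.obj j₀)) (n := p + 1) fun k =>
    tr D (hj₀ (Finset.mem_image_of_mem i₀ (Finset.mem_univ k))).some _ (a₀ k)
  have hxx : ((mapN (colimit.ι D j₀)).f (p + 1)).hom xj = x := cev_ext Y _ fun k => by
    refine (cev_map Y (P (D.obj j₀)) _ (p + 1) k xj).trans ?_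
    rw [hxj k]
    exact (cl_tr D _ _ _).trans (ha₀ k)
  let dj := ((cechCx (Over.forget V) Y (D.obj j₀)).d (p + 1) (p + 2)).hom xj
  obtain ⟨j, u, hu⟩ := exists_common (i := j₀) (κ := Fin (p + 3) → ι)
    (fun j u k => tr D u _ (cev Y (P (D.obj j₀)) (p + 2) k dj) = 0)
    (fun j j' u v k hk => by rw [← tr_comp, hk, map_zero]) (fun k => by
      obtain ⟨j, u, hu⟩ := exists_eq_stage D S (hB (p + 2) k) (cev Y (P (D.obj j₀)) (p + 2) k dj) 0 (by
        rw [map_zero]
        refine (cev_map Y (P (D.obj j₀)) (Functor.whiskerLeft (Over.forget V).op (colimit.ι D j₀).hom) (p + 2) k dj).symm.trans ?_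
        refine (congrArg (cev Y (P (colimit D)) (p + 2) k)
          (ConcreteCategory.congr_hom ((mapN (colimit.ι D j₀)).comm (p + 1) (p + 2)) xj).symm).trans ?_
        refine (congrArg (fun t => cev Y (P (colimit D)) (p + 2) k
          (((cechCx (Over.forget V) Y (colimit D)).d (p + 1) (p + 2)).hom t)) hxx).trans ?_
        exact (congrArg (cev Y (P (colimit D)) (p + 2) k) hx).trans (map_zero _))
      exact ⟨j, u, hu.trans (map_zero _)⟩)
  let xu := ((mapN (D.map u)).f (p + 1)).hom xj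
  have hdu : ((cechCx (Over.forget V) Y (D.obj j)).d (p + 1) (p + 2)).hom xu = 0 := cev_ext Y _ fun k => by
    refine (congrArg (cev Y (P (D.obj j)) (p + 2) k)
      (ConcreteCategory.congr_hom ((mapN (D.map u)).comm (p + 1) (p + 2)) xj)).trans ?_
    refine (cev_map Y (P (D.obj j₀)) _ (p + 2) k dj).trans ?_
    rw [map_zero]
    exact hu k
  obtain ⟨y, hy⟩ := exists_preimage_of_exactAt (injAcyclic_over (J := J) Y (D.obj j) (hD j) p) xu hdu
  refine ⟨((mapN (colimit.ι D j)).f p).hom y, ?_⟩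
  refine (ConcreteCategory.congr_hom ((mapN (colimit.ι D j)).comm p (p + 1)) y).trans ?_
  refine (congrArg ((mapN (colimit.ι D j)).f (p + 1)).hom hy).trans ?_
  refine Eq.trans ?_ hxx
  refine cev_ext Y _ fun k => ?_
  refine (cev_map Y (P (D.obj j)) _ (p + 1) k xu).trans ?_
  refine (congrArg (cl D j _) (cev_map Y (P (D.obj j₀)) _ (p + 1) k xj)).trans ?_
  exact (cl_tr D u _ _).trans
    (cev_map Y (P (D.obj j₀)) (Functor.whiskerLeft (Over.forget V).op (colimit.ι D j₀).hom) (p + 1) k xj).symm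

include S in
theorem comm_cov : ∀ (q : ℕ) {V : C}, V ∈ S.B → ∀ D : I ⥤ Sheaf J AddCommGrpCat.{u},
    ToposFinLib.Comm (CohCx.freeSheaf J V) q D
  | 0, V, hV, D => by
    refine ⟨fun x => ?_, fun i y hy => ?_⟩
    · obtain ⟨φ, rfl⟩ := (Ext.mk₀_bijective _ _).2 x
      obtain ⟨i, a, ha⟩ := exists_stage D S hV (secEquiv J V _ φ)
      refine ⟨i, Ext.mk₀ ((secEquiv J V _).symm a), ?_⟩
      rw [Ext.mk₀_comp_mk₀]
      refine congrArg Ext.mk₀ ((secEquiv J V _).injective ?_)
      rw [secEquiv_comp, AddEquiv.apply_symm_apply]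
      exact ha
    · obtain ⟨φ, rfl⟩ := (Ext.mk₀_bijective _ _).2 y
      rw [Ext.mk₀_comp_mk₀, ← Ext.mk₀_zero] at hy
      obtain ⟨j, u, hu⟩ := exists_eq_stage D S hV (secEquiv J V _ φ) 0 (by
        rw [map_zero]
        exact (secEquiv_comp V φ (colimit.ι D i)).symm.trans
          ((congrArg (secEquiv J V _) ((Ext.mk₀_bijective _ _).1 hy)).trans (map_zero _)))
      refine ⟨j, u, ?_⟩
      rw [Ext.mk₀_comp_mk₀, ← Ext.mk₀_zero]
      refine congrArg Ext.mk₀ ((secEquiv J V _).injective ?_)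
      rw [secEquiv_comp, map_zero]
      exact hu.trans (map_zero _)
  | q + 1, V, hV, D => by
    refine ToposFinLib.comm_succ_of q (fun D' => comm_cov q hV D') D ?_
    refine (subsingleton_HU_iff (colimit (ToposFinLib.cofreeInj D)) (q + 1) V).1 ?_
    refine subsingleton_HU_of_cartan (J := J) (fun W => W ∈ S.B)
      (K := { k : Σ (W : C) (ι : Type u), ι → Over W // S.Cov k.1 k.2.1 k.2.2 })
      (fun k => Over k.1.1) (fun k => Over.forget k.1.1) (fun k => k.1.2.1) (fun k => k.1.2.2)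
      (fun k n a => (S.h1 _ _ _ k.2).2.2.2 n a) (fun k => injAcyclic_over _) ?_
      (fun k p => exactAt_cech_colimit (ToposFinLib.cofreeInj D) S (ToposFinLib.injective_cofreeInj D) _ k.2 p) hV q
    intro W hW T hT
    obtain ⟨ι, Y, hY, hT'⟩ := S.h2 W hW T hT
    exact ⟨⟨⟨W, ι, Y⟩, hY⟩, ctxOver Y, (S.h1 _ _ _ hY).2.2.1, hT'⟩

end Groth.Agent.CovColim
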