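import Groth.Agent.ToposFinLib.ExtColim
import Groth.Agent.ToposFinLib.Algebraic2

/-!
# Filtered colimits and cohomology, from a family of quasi-compact sheaves of sets

A class `S` of quasi-compact sheaves of sets refining epimorphisms onto its members and covering products and
equalizers of its members makes cohomology commute with filtered colimits.
-/

set_option autoImplicit false
set_option linter.style.haveILetI false
set_option backward.isDefEq.respectTransparency false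
set_option linter.unusedVariables false

universe u

open CategoryTheory CategoryTheory.Limits Opposite ToposFin Simplicial Abelian Groth.Agent.SiteBase Groth.Agent.ToposFinLib

namespace Groth.Agent.SFamColim

variable {C : Type u} [SmallCategory C] {J : GrothendieckTopology C} {S : Sh J → Prop}

/-- The hypotheses on the family. -/
structure SFam (S : Sh J → Prop) : Prop where
  refine_epi : ∀ (F K : Sh J) (g : F ⟶ K), S K → Epi g → ∃ (K' : Sh J) (k : K' ⟶ F), S K' ∧ Epi (k ≫ g)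
  prod : ∀ K K', S K → S K' → ∃ (K'' : Sh J) (g : K'' ⟶ K ⨯ K'), S K'' ∧ Epi g
  eq : ∀ (K K' : Sh J) (a b : K ⟶ K'), S K → S K' → ∃ (K'' : Sh J) (g : K'' ⟶ equalizer a b), S K'' ∧ Epi g
  qc : ∀ K, S K → IsQC K

/-- An epimorphic image of a member. -/
def SCov (S : Sh J → Prop) (W : Sh J) : Prop := ∃ (K : Sh J) (e : K ⟶ W), S K ∧ Epi e

/-- An epimorphic image of a member separated by finitely many morphisms to members. -/
def STerm (S : Sh J → Prop) (W : Sh J) : Prop :=
  SCov S W ∧ ∃ (n : ℕ) (L : Fin n → Sh J) (m : ∀ i, W ⟶ L i), (∀ i, S (L i)) ∧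
    ∀ ⦃Z : Sh J⦄ (a b : Z ⟶ W), (∀ i, a ≫ m i = b ≫ m i) → a = b

theorem STerm.of_mem {K : Sh J} (h : S K) : STerm S K :=
  ⟨⟨K, 𝟙 K, h, inferInstance⟩, 1, fun _ => K, fun _ => 𝟙 K, fun _ => h, fun Z a b e => by simpa using e 0⟩

theorem STerm.terminal (h : ∃ K, S K ∧ Epi (terminal.from K)) : STerm S (⊤_ (Sh J)) :=
  ⟨let ⟨K, hK, he⟩ := h; ⟨K, terminal.from K, hK, he⟩, 0, Fin.elim0, fun i => i.elim0, fun i => i.elim0,
    fun Z a b _ => terminal.hom_ext a b⟩

/-- Base changes of epimorphisms are epimorphisms. -/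
theorem epi_of_isPullback {P X Y Z : Sh J} {p : P ⟶ Y} {q : P ⟶ X} {g : Y ⟶ Z} {f : X ⟶ Z}
    (sq : IsPullback p q g f) [Epi f] : Epi p :=
  epi_of_cov.{u} ((cov_of_epi.{u} f).pullback g fun _ => sq)

theorem SCov.isQC (hS : SFam S) {W : Sh J} (h : SCov S W) : IsQC W :=
  let ⟨_, e, hK, he⟩ := h
  haveI := he
  isQC_of_epi e (hS.qc _ hK)

theorem STerm.isQC (hS : SFam S) {W : Sh J} (h : STerm S W) : IsQC W := h.1.isQC hS

theorem SCov.of_epi {X Y : Sh J} (f : X ⟶ Y) [Epi f] (h : SCov S X) : SCov S Y :=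
  let ⟨K, e, hK, he⟩ := h
  haveI := he
  ⟨K, e ≫ f, hK, epi_comp _ _⟩

/-- Epimorphisms onto covered objects are refined by members. -/
theorem SFam.exists_refinement_cov (hS : SFam S) {W L : Sh J} (hW : SCov S W) (f : L ⟶ W) [Epi f] :
    ∃ (K : Sh J) (k : K ⟶ L), S K ∧ Epi (k ≫ f) := by
  obtain ⟨K₀, e, hK₀, he⟩ := hW
  haveI := he
  haveI : Epi (pullback.snd f e) := epi_of_isPullback (IsPullback.of_hasPullback f e).flip
  obtain ⟨K, k, hK, hk⟩ := hS.refine_epi _ _ (pullback.snd f e) hK₀ inferInstance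
  refine ⟨K, k ≫ pullback.fst f e, hK, ?_⟩
  haveI := hk
  rw [Category.assoc, pullback.condition, ← Category.assoc]
  exact epi_comp _ _

theorem SFam.exists_refinement (hS : SFam S) {W : Sh J} (hW : STerm S W) {L : Sh J} (f : L ⟶ W) [Epi f] :
    ∃ (K : Sh J) (k : K ⟶ L), S K ∧ Epi (k ≫ f) :=
  hS.exists_refinement_cov hW.1 f

theorem SFam.scov_prod (hS : SFam S) {A B : Sh J} (hA : SCov S A) (hB : SCov S B) : SCov S (A ⨯ B) := by
  obtain ⟨KA, eA, hKA, heA⟩ := hA
  obtain ⟨KB, eB, hKB, heB⟩ := hB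
  haveI := heA; haveI := heB
  obtain ⟨K, g, hK, hg⟩ := hS.prod KA KB hKA hKB
  haveI := hg
  haveI : Epi (prod.map eA (𝟙 KB)) := by
    refine epi_of_isPullback (q := (prod.fst : KA ⨯ KB ⟶ KA)) (g := prod.fst) (f := eA)
      (IsPullback.of_isLimit' ⟨prod.map_fst _ _⟩ (PullbackCone.IsLimit.mk _
        (fun s => prod.lift s.snd (s.fst ≫ prod.snd)) (fun s => ?_) (fun s => by simp) fun s m h1 h2 => ?_))
    · apply prod.hom_ext <;> simp [s.condition]
    · apply prod.hom_ext
      · simpa using h2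
      · simpa using congrArg (· ≫ prod.snd) h1
  haveI : Epi (prod.map (𝟙 A) eB) := by
    refine epi_of_isPullback (q := (prod.snd : A ⨯ KB ⟶ KB)) (g := prod.snd) (f := eB)
      (IsPullback.of_isLimit' ⟨prod.map_snd _ _⟩ (PullbackCone.IsLimit.mk _
        (fun s => prod.lift (s.fst ≫ prod.fst) s.snd) (fun s => ?_) (fun s => by simp) fun s m h1 h2 => ?_))
    · apply prod.hom_ext <;> simp [s.condition]
    · apply prod.hom_ext
      · simpa using congrArg (· ≫ prod.fst) h1
      · simpa using h2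
  exact ⟨K, g ≫ prod.map eA (𝟙 KB) ≫ prod.map (𝟙 A) eB, hK, epi_comp _ _⟩

theorem SFam.scov_equalizer (hS : SFam S) {X L : Sh J} (hX : SCov S X) (hL : S L) (a b : X ⟶ L) :
    SCov S (equalizer a b) := by
  obtain ⟨K, e, hK, he⟩ := hX
  haveI := he
  obtain ⟨K', g, hK', hg⟩ := hS.eq K L (e ≫ a) (e ≫ b) hK hL
  haveI := hg
  let φ : equalizer (e ≫ a) (e ≫ b) ⟶ equalizer a b :=
    equalizer.lift (equalizer.ι _ _ ≫ e) (by simp only [Category.assoc]; exact equalizer.condition _ _)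
  haveI : Epi φ := by
    refine epi_of_isPullback (q := equalizer.ι (e ≫ a) (e ≫ b)) (g := equalizer.ι a b) (f := e)
      (IsPullback.of_isLimit' ⟨equalizer.lift_ι _ _⟩ (PullbackCone.IsLimit.mk _
        (fun s => equalizer.lift s.snd (by
          rw [← Category.assoc, ← Category.assoc, ← s.condition, Category.assoc, Category.assoc,
            equalizer.condition]))
        (fun s => ?_) (fun s => equalizer.lift_ι _ _) fun s m h1 h2 => ?_))
    · apply equalizer.hom_ext
      simp [φ, s.condition]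
    · apply equalizer.hom_ext
      simpa using h2
  exact ⟨K', g ≫ φ, hK', epi_comp _ _⟩

/-- Finitely many equations cut a covered subobject out of a covered object. -/
theorem SFam.exists_scov_equations (hS : SFam S) : ∀ (n : ℕ) {X : Sh J} (L : Fin n → Sh J) (a b : ∀ i, X ⟶ L i),
    SCov S X → (∀ i, S (L i)) → ∃ (P : Sh J) (ι : P ⟶ X), Mono ι ∧ SCov S P ∧ (∀ i, ι ≫ a i = ι ≫ b i) ∧
      ∀ {Y : Sh J} (y : Y ⟶ X), (∀ i, y ≫ a i = y ≫ b i) → ∃ z : Y ⟶ P, z ≫ ι = y
  | 0, X, L, a, b, hX, _ => ⟨X, 𝟙 X, inferInstance, hX, fun i => i.elim0, fun y _ => ⟨y, Category.comp_id y⟩⟩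
  | n + 1, X, L, a, b, hX, hL => by
    obtain ⟨P, ι, hι, hP, hab, hlift⟩ := SFam.exists_scov_equations hS n (fun i => L i.succ)
      (fun i => a i.succ) (fun i => b i.succ) hX fun i => hL _
    haveI := hι
    refine ⟨equalizer (ι ≫ a 0) (ι ≫ b 0), equalizer.ι _ _ ≫ ι, mono_comp _ _,
      hS.scov_equalizer hP (hL 0) _ _, fun i => ?_, fun y hy => ?_⟩
    · refine Fin.cases ?_ (fun i => ?_) i
      · simp only [Category.assoc]
        exact equalizer.condition _ _
      · rw [Category.assoc, Category.assoc, hab]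
    · obtain ⟨z, hz⟩ := hlift y fun i => hy _
      refine ⟨equalizer.lift z (by rw [← Category.assoc, ← Category.assoc, hz, hy]), ?_⟩
      rw [← Category.assoc, equalizer.lift_ι, hz]

theorem SFam.scov_pullback (hS : SFam S) {A B W : Sh J} (hW : STerm S W) (f : A ⟶ W) (g : B ⟶ W)
    (hA : SCov S A) (hB : SCov S B) : SCov S (pullback f g) := by
  obtain ⟨-, n, L, m, hL, hm⟩ := hW
  obtain ⟨P, ι, hι, hP, hab, hlift⟩ := hS.exists_scov_equations n L
    (fun i => (prod.fst : A ⨯ B ⟶ A) ≫ f ≫ m i) (fun i => (prod.snd : A ⨯ B ⟶ B) ≫ g ≫ m i)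
    (hS.scov_prod hA hB) hL
  haveI := hι
  let t : P ⟶ pullback f g := pullback.lift (ι ≫ prod.fst) (ι ≫ prod.snd)
    (hm _ _ fun i => by simpa using hab i)
  obtain ⟨z, hz⟩ := hlift (prod.lift (pullback.fst f g) (pullback.snd f g)) fun i => by
    simp only [prod.lift_fst_assoc, prod.lift_snd_assoc, pullback.condition_assoc]
  haveI : IsSplitEpi t := ⟨⟨z, by
    apply pullback.hom_ext
    · simp only [Category.assoc, t, pullback.lift_fst, Category.id_comp]
      rw [← Category.assoc, hz, prod.lift_fst]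
    · simp only [Category.assoc, t, pullback.lift_snd, Category.id_comp]
      rw [← Category.assoc, hz, prod.lift_snd]⟩⟩
  exact hP.of_epi t

theorem SFam.scov_widePullback (hS : SFam S) {W K' : Sh J} (hW : STerm S W) (f : K' ⟶ W) (h : S K') :
    ∀ n : ℕ, SCov S (widePullback W (fun _ : Fin (n + 1) => K') (fun _ => f))
  | 0 => by
    haveI := isIso_pbπ_zero f
    exact (STerm.of_mem h).1.of_epi (inv (WidePullback.π (fun _ : Fin 1 => f) 0))
  | n + 1 => by
    let a : Limits.pullback (WidePullback.base (fun _ : Fin (n + 1) => f)) f ⟶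
        widePullback W (fun _ : Fin (n + 2) => K') (fun _ => f) :=
      WidePullback.lift (pullback.snd _ _ ≫ f)
        (Fin.cons (pullback.snd _ _) fun i => pullback.fst _ _ ≫ WidePullback.π _ i) (by
          intro i
          refine Fin.cases rfl (fun i => ?_) i
          simp [pullback.condition])
    haveI : IsSplitEpi a := ⟨⟨pullback.lift (WidePullback.lift (WidePullback.base _)
        (fun i => WidePullback.π (fun _ : Fin (n + 2) => f) i.succ) (fun i => WidePullback.π_arrow _ _))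
        (WidePullback.π (fun _ : Fin (n + 2) => f) 0) (by simp), by
      apply WidePullback.hom_ext
      · intro i
        refine Fin.cases ?_ (fun i => ?_) i <;> simp [a]
      · simp [a]⟩⟩
    exact (hS.scov_pullback hW _ _ (hS.scov_widePullback hW f h n) (STerm.of_mem h).1).of_epi a

theorem SFam.term_widePullback (hS : SFam S) {W K' : Sh J} (hW : STerm S W) (f : K' ⟶ W) (h : S K') (n : ℕ) :
    STerm S (widePullback W (fun _ : Fin (n + 1) => K') (fun _ => f)) :=
  ⟨hS.scov_widePullback hW f h n, n + 1, fun _ => K', fun i => WidePullback.π (fun _ => f) i, fun _ => h,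
    fun Z a b e => by
      apply WidePullback.hom_ext
      · exact e
      · rw [← WidePullback.π_arrow (fun _ : Fin (n + 1) => f) 0, ← Category.assoc, e, Category.assoc]⟩

/-- Morphisms from terms into filtered colimits factor through a stage. -/
theorem SFam.exists_stage_factor (hS : SFam S) {W : Sh J} (hW : STerm S W) {I : Type u} [SmallCategory I]
    [IsFiltered I] {D : I ⥤ Sh J} {c : Cocone D} (hc : IsColimit c) (y : W ⟶ c.pt) :
    ∃ (i : I) (h : W ⟶ D.obj i), h ≫ c.ι.app i = y := by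
  classical
  obtain ⟨s, hs⟩ := exists_finite_refinement (hW.isQC hS) ((cov_ι_of_isColimit hc).pullback_snd y)
  obtain ⟨j₀, hj₀⟩ := IsFiltered.sup_objs_exists s
  haveI : Epi (pullback.snd (c.ι.app j₀) y) := epi_of_cov.{u} (hs.refine fun p =>
    ⟨PUnit.unit, pullback.lift (pullback.fst _ _ ≫ D.map (hj₀ p.2).some) (pullback.snd _ _)
      (by rw [Category.assoc, c.w, pullback.condition]), pullback.lift_snd _ _ _⟩)
  obtain ⟨K, k, hK, hk⟩ := hS.exists_refinement hW (pullback.snd (c.ι.app j₀) y)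
  haveI := hk
  let π : K ⟶ W := k ≫ pullback.snd (c.ι.app j₀) y
  let h₀ : K ⟶ D.obj j₀ := k ≫ pullback.fst (c.ι.app j₀) y
  have hh₀ : h₀ ≫ c.ι.app j₀ = π ≫ y := by simp [h₀, π, pullback.condition]
  obtain ⟨j, v, hv⟩ := exists_stage_eq
    ((hS.scov_pullback hW π π (STerm.of_mem hK).1 (STerm.of_mem hK).1).isQC hS) hc j₀
    (pullback.fst π π ≫ h₀) (pullback.snd π π ≫ h₀) (by
      simp only [Category.assoc, hh₀, pullback.condition_assoc])
  obtain ⟨h, hh⟩ := (cov_of_epi.{u} π).exists_desc (fun _ => h₀ ≫ D.map v) fun _ _ => by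
    simpa only [Category.assoc] using hv
  exact ⟨j, h, (cov_of_epi.{u} π).hom_ext fun i => by rw [← Category.assoc, hh i, Category.assoc, c.w, hh₀]⟩

/-- Vanishing of the Cech cohomology of covers of tame objects. -/
def SKill (S : Sh J → Prop) (G : Sheaf J AddCommGrpCat.{u}) : Prop :=
  ∀ (K' K : Sh J) (f : K' ⟶ K), STerm S K → S K' → Epi f → CechKill G (nerve f)

theorem exists_lift_of_sKill (hS : SFam S)
    {E : ShortComplex (Sheaf J AddCommGrpCat.{u})} (hE : E.ShortExact) (h₁ : SKill S E.X₁)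
    (K : Sheaf J (Type u)) (hK : STerm S K) (φ : freeSh K ⟶ E.X₃) : ∃ ψ, ψ ≫ E.g = φ := by
  let Φ := sheafCompose J (CategoryTheory.forget AddCommGrpCat.{u})
  have hloc : Sheaf.IsLocallySurjective E.g := (Sheaf.isLocallySurjective_iff_epi' _ E.g).2 hE.epi_g
  let φ' : K ⟶ Φ.obj E.X₃ := freeShEquiv K E.X₃ φ
  haveI : Epi (pullback.fst φ' (Φ.map E.g)) := by
    have : Sheaf.IsLocallySurjective (pullback.fst φ' (Φ.map E.g)) := ⟨fun {U} s => by
      refine J.superset_covering ?_ (hloc.imageSieve_mem (φ'.hom.app (op U) s))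
      rintro V g ⟨t, ht⟩
      let a : hSheaf J V ⟶ K := (secT V K).symm (K.obj.map g.op s)
      let b : hSheaf J V ⟶ Φ.obj E.X₂ := (secT V (Φ.obj E.X₂)).symm t
      have hab : a ≫ φ' = b ≫ Φ.map E.g := (secT V (Φ.obj E.X₃)).injective (by
        rw [secT_comp, secT_comp, Equiv.apply_symm_apply, Equiv.apply_symm_apply]
        exact (ConcreteCategory.congr_hom (φ'.hom.naturality g.op) s).trans ht.symm)
      refine ⟨secT V _ (pullback.lift a b hab), (secT_comp V _ (pullback.fst φ' (Φ.map E.g))).symm.trans ?_⟩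
      rw [pullback.lift_fst, Equiv.apply_symm_apply]⟩
    exact (Sheaf.isLocallySurjective_iff_epi _).1 this
  obtain ⟨K', k, hK', hf⟩ := SFam.exists_refinement hS hK (pullback.fst φ' (Φ.map E.g))
  let f : K' ⟶ K := k ≫ pullback.fst φ' (Φ.map E.g)
  haveI : Epi f := hf
  have := epi_augSh f
  let p : pb0 f ⟶ K' := WidePullback.π (fun _ : Fin 1 => f) 0
  let ψ₀ : (freeShChain (nerve f)).X 0 ⟶ E.X₂ :=
    (freeShEquiv (pb0 f) E.X₂).symm (p ≫ k ≫ pullback.snd φ' (Φ.map E.g))
  have hψ₀ : ψ₀ ≫ E.g = augSh f ≫ φ := by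
    apply (freeShEquiv (pb0 f) E.X₃).injective
    refine (freeShEquiv_comp ψ₀ E.g).trans (Eq.trans ?_ (freeShEquiv_precomp _ φ).symm)
    refine (congrArg (· ≫ Φ.map E.g) (Equiv.apply_symm_apply _ _)).trans ?_
    refine Eq.trans ?_ (congrArg (· ≫ φ') (WidePullback.π_arrow (fun _ : Fin 1 => f) 0))
    simp only [p, f, Category.assoc, pullback.condition]
  have := hE.mono_f
  have hw : ((freeShChain (nerve f)).d 1 0 ≫ ψ₀) ≫ E.g = 0 := by
    rw [Category.assoc, hψ₀, ← Category.assoc, d_comp_augSh, zero_comp]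
  obtain ⟨b, hb⟩ := h₁ _ _ f hK hK' hf 0 (hE.exact.lift _ hw) (by
    rw [← cancel_mono E.f, Category.assoc, hE.exact.lift_f, zero_comp, ← Category.assoc,
      HomologicalComplex.d_comp_d, zero_comp])
  obtain ⟨ψ, hψ⟩ := exists_desc f (ψ₀ - b ≫ E.f) (by
    rw [Preadditive.comp_sub, sub_eq_zero, ← Category.assoc, hb, hE.exact.lift_f])
  refine ⟨ψ, (cancel_epi (augSh f)).1 ?_⟩
  rw [← Category.assoc, hψ, Preadditive.sub_comp, Category.assoc, E.zero, comp_zero, sub_zero, hψ₀]

theorem sKill_X₃ (hS : SFam S)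
    {E : ShortComplex (Sheaf J AddCommGrpCat.{u})} (hE : E.ShortExact) (h₁ : SKill S E.X₁) (h₂ : SKill S E.X₂) :
    SKill S E.X₃ := by
  intro K' K f hK hK' hf n w hw
  have := hE.mono_f
  obtain ⟨w₂, rfl⟩ : ∃ ψ : (freeShChain (nerve f)).X (n + 1) ⟶ E.X₂, ψ ≫ E.g = w :=
    exists_lift_of_sKill hS hE h₁ ((nerve f).left.obj (op ⦋n + 1⦌)) (hS.term_widePullback hK f hK' (n + 1)) w
  have hv : ((freeShChain (nerve f)).d (n + 2) (n + 1) ≫ w₂) ≫ E.g = 0 := by rw [Category.assoc, hw]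
  have hv' : (freeShChain (nerve f)).d (n + 3) (n + 2) ≫ hE.exact.lift _ hv = 0 := by
    rw [← cancel_mono E.f, Category.assoc, hE.exact.lift_f, zero_comp, ← Category.assoc,
      HomologicalComplex.d_comp_d, zero_comp]
  obtain ⟨b₁, hb₁⟩ := h₁ K' K f hK hK' hf (n + 1) _ hv'
  obtain ⟨b₂, hb₂⟩ := h₂ K' K f hK hK' hf n (w₂ - b₁ ≫ E.f) (by
    rw [Preadditive.comp_sub, sub_eq_zero, ← Category.assoc, hb₁, hE.exact.lift_f])
  refine ⟨b₂ ≫ E.g, ?_⟩
  rw [← Category.assoc, hb₂, Preadditive.sub_comp, Category.assoc, E.zero, comp_zero, sub_zero]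

theorem subsingleton_ext_of_sKill (hS : SFam S)
    (G : Sheaf J AddCommGrpCat.{u}) (hG : SKill S G) (K : Sh J) (hK : STerm S K) (q : ℕ) :
    Subsingleton (Ext (freeSh K) G (q + 1)) := by
  induction q generalizing G with
  | zero =>
    obtain ⟨E, hE, hI, rfl⟩ : ∃ E : ShortComplex (Sheaf J AddCommGrpCat.{u}),
        E.ShortExact ∧ Injective E.X₂ ∧ E.X₁ = G :=
      ⟨injectiveSES G, injectiveSES_shortExact G, inferInstance, injectiveSES_X₁ G⟩
    exact subsingleton_ext_one_X₁ _ hE (Ext.subsingleton_of_injective _ E.X₂ 0)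
      (exists_lift_of_sKill hS hE hG K hK)
  | succ q ih =>
    obtain ⟨E, hE, hI, rfl⟩ : ∃ E : ShortComplex (Sheaf J AddCommGrpCat.{u}),
        E.ShortExact ∧ Injective E.X₂ ∧ E.X₁ = G :=
      ⟨injectiveSES G, injectiveSES_shortExact G, inferInstance, injectiveSES_X₁ G⟩
    exact subsingleton_ext_X₁ _ hE (q + 1) (Ext.subsingleton_of_injective _ E.X₂ (q + 1))
      (ih E.X₃ (sKill_X₃ hS hE hG fun K' K f _ _ _ =>
        cechKill_of_injective (sheafNerveLike_nerve f) E.X₂))

section Colimit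

variable {Λ : Type u} [SmallCategory Λ] [IsFiltered Λ] (D : Λ ⥤ Sheaf J AddCommGrpCat.{u})

theorem exists_hom_stage (hS : SFam S) {K : Sh J}
    (hK : STerm S K) {c : Cocone D} (hc : IsColimit c) (φ : freeSh K ⟶ c.pt) :
    ∃ (i : Λ) (ψ : freeSh K ⟶ D.obj i), ψ ≫ c.ι.app i = φ := by
  obtain ⟨i, a, ha⟩ := hS.exists_stage_factor hK
    (isColimitOfPreserves (underlying J) hc) (freeShEquiv K c.pt φ)
  refine ⟨i, (freeShEquiv K (D.obj i)).symm a, (freeShEquiv K c.pt).injective ?_⟩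
  rw [freeShEquiv_comp, Equiv.apply_symm_apply]
  exact ha

theorem sKill_colimit (hS : SFam S)
    (hD : ∀ i, Injective (D.obj i)) {c : Cocone D} (hc : IsColimit c) : SKill S c.pt := by
  intro K' K f hK hK' hf n w hw
  obtain ⟨i, w₀, hw₀⟩ := exists_hom_stage D hS
    (K := (nerve f).left.obj (op ⦋n + 1⦌)) (hS.term_widePullback hK f hK' (n + 1)) hc w
  obtain ⟨j, u, hu⟩ := exists_hom_stage_eq D (K := (nerve f).left.obj (op ⦋n + 2⦌))
    ((hS.term_widePullback hK f hK' (n + 2)).isQC hS) hc i ((freeShChain (nerve f)).d (n + 2) (n + 1) ≫ w₀) 0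
    ((Category.assoc _ _ _).trans (((congrArg ((freeShChain (nerve f)).d (n + 2) (n + 1) ≫ ·) hw₀).trans hw).trans
      zero_comp.symm))
  haveI := hD j
  obtain ⟨b, hb⟩ := cechKill_of_injective (sheafNerveLike_nerve f) (D.obj j) n (w₀ ≫ D.map u)
    ((Category.assoc _ _ _).symm.trans (hu.trans zero_comp))
  refine ⟨b ≫ c.ι.app j, ?_⟩
  rw [← Category.assoc, hb, Category.assoc, c.w, hw₀]

end Colimit

section

variable {K : Sh J} {Λ : Type u} [SmallCategory Λ] [IsFiltered Λ] (hS : SFam S)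

include hS

theorem comm_zero (hK : STerm S K) (D : Λ ⥤ Sheaf J AddCommGrpCat.{u}) : Comm (freeSh K) 0 D where
  surj x := by
    obtain ⟨φ, rfl⟩ := (Ext.mk₀_bijective _ _).2 x
    obtain ⟨i, ψ, hψ⟩ := exists_hom_stage D hS hK (colimit.isColimit D) φ
    exact ⟨i, Ext.mk₀ ψ, by rw [Ext.mk₀_comp_mk₀]; exact congrArg Ext.mk₀ hψ⟩
  inj i y hy := by
    obtain ⟨φ, rfl⟩ := (Ext.mk₀_bijective _ _).2 y
    rw [Ext.mk₀_comp_mk₀, ← Ext.mk₀_zero] at hy
    obtain ⟨j, u, hu⟩ := exists_hom_stage_eq D (hK.isQC hS) (colimit.isColimit D) i φ 0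
      (((Ext.mk₀_bijective _ _).1 hy).trans zero_comp.symm)
    exact ⟨j, u, by rw [Ext.mk₀_comp_mk₀, hu, zero_comp, Ext.mk₀_zero]⟩

theorem comm_succ (hK : STerm S K) (q : ℕ) (ih : ∀ D : Λ ⥤ Sheaf J AddCommGrpCat.{u}, Comm (freeSh K) q D)
    (D : Λ ⥤ Sheaf J AddCommGrpCat.{u}) : Comm (freeSh K) (q + 1) D := by
  have hI : Subsingleton (Ext (freeSh K) (colimit (cofreeInj D)) (q + 1)) :=
    subsingleton_ext_of_sKill hS _
      (sKill_colimit (cofreeInj D) hS (injective_cofreeInj D) (colimit.isColimit _)) K hK q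
  have hSc := shortExact_colimSES D
  refine ⟨fun x => ?_, fun i y hy => ?_⟩
  · obtain ⟨z, hz⟩ := Ext.covariant_sequence_exact₁ (freeSh K) hSc x (hI.elim _ _) (rfl : q + 1 = q + 1)
    obtain ⟨i, w, hw⟩ := (ih (cokernel (toCofreeInj D))).surj z
    refine ⟨i, w.comp (shortExact_stageSES D i).extClass rfl, ?_⟩
    refine (conn_natural (shortExact_stageSES D i) hSc (stageToColim D i) w).trans ?_
    exact (congrArg (fun t => Ext.comp t hSc.extClass rfl) hw).trans hz
  · have : Injective (stageSES D i).X₂ := injective_cofreeInj D i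
    obtain ⟨z, hz⟩ := Ext.covariant_sequence_exact₁ (freeSh K) (shortExact_stageSES D i) y
      (haveI := Ext.subsingleton_of_injective (freeSh K) (stageSES D i).X₂ q; Subsingleton.elim _ _)
      (rfl : q + 1 = q + 1)
    subst hz
    have h0 : (z.comp (Ext.mk₀ (stageToColim D i).τ₃) (add_zero q)).comp hSc.extClass rfl = 0 :=
      (conn_natural (shortExact_stageSES D i) hSc (stageToColim D i) z).symm.trans hy
    obtain ⟨a, ha⟩ := Ext.covariant_sequence_exact₃ (freeSh K) hSc _ rfl h0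
    obtain ⟨j, b, hb⟩ := (ih (cofreeInj D)).surj a
    obtain ⟨k, f, g, -⟩ : ∃ (k : Λ) (f : i ⟶ k) (g : j ⟶ k), True :=
      ⟨IsFiltered.max i j, IsFiltered.leftToMax i j, IsFiltered.rightToMax i j, trivial⟩
    let r := (b.comp (Ext.mk₀ ((cofreeInj D).map g)) (add_zero q)).comp (Ext.mk₀ (stageSES D k).g) (add_zero q)
    let s := z.comp (Ext.mk₀ (stageMap D f).τ₃) (add_zero q)
    have hrs : (s - r).comp (Ext.mk₀ (colimit.ι (cokernel (toCofreeInj D)) k)) (add_zero q) = 0 := by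
      rw [sub_eq_add_neg, Ext.add_comp, Ext.neg_comp, ← sub_eq_add_neg, sub_eq_zero]
      simp only [r, s, Ext.comp_assoc_of_third_deg_zero, Ext.mk₀_comp_mk₀]
      refine Eq.trans (congrArg (fun t => z.comp (Ext.mk₀ t) (add_zero q))
        (colimit.w (cokernel (toCofreeInj D)) f)) (ha.symm.trans ?_)
      rw [← hb, Ext.comp_assoc_of_third_deg_zero, Ext.mk₀_comp_mk₀]
      refine congrArg (fun t => b.comp (Ext.mk₀ t) (add_zero q)) ?_
      exact ((congrArg (· ≫ (colimSES D).g) (colimit.w (cofreeInj D) g).symm).trans (Category.assoc _ _ _)).trans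
        (congrArg ((cofreeInj D).map g ≫ ·) (stageToColim D k).comm₂₃)
    obtain ⟨l, t, ht⟩ := (ih (cokernel (toCofreeInj D))).inj k (s - r) hrs
    refine ⟨l, f ≫ t, ?_⟩
    have h1 := conn_natural (shortExact_stageSES D i) (shortExact_stageSES D l) (stageMap D (f ≫ t)) z
    refine h1.trans ?_
    have h2 : z.comp (Ext.mk₀ (stageMap D (f ≫ t)).τ₃) (add_zero q) =
        ((b.comp (Ext.mk₀ ((cofreeInj D).map (g ≫ t))) (add_zero q)).comp (Ext.mk₀ (stageSES D l).g) (add_zero q)) := by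
      rw [sub_eq_add_neg, Ext.add_comp, Ext.neg_comp, ← sub_eq_add_neg, sub_eq_zero] at ht
      simp only [r, s, Ext.comp_assoc_of_third_deg_zero, Ext.mk₀_comp_mk₀] at ht
      rw [Ext.comp_assoc_of_third_deg_zero, Ext.mk₀_comp_mk₀]
      refine Eq.trans (congrArg (fun w => z.comp (Ext.mk₀ w) (add_zero q))
        ((cokernel (toCofreeInj D)).map_comp f t)) (ht.trans ?_)
      refine congrArg (fun w => b.comp (Ext.mk₀ w) (add_zero q)) ?_
      rw [Functor.map_comp, Category.assoc, Category.assoc]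
      exact congrArg ((cofreeInj D).map g ≫ ·) (stageMap D t).comm₂₃.symm
    rw [h2, Ext.comp_assoc_of_second_deg_zero, (shortExact_stageSES D l).comp_extClass, Ext.comp_zero]

theorem comm_all (hK : STerm S K) : ∀ (q : ℕ) (D : Λ ⥤ Sheaf J AddCommGrpCat.{u}), Comm (freeSh K) q D
  | 0 => comm_zero hS hK
  | q + 1 => comm_succ hS hK q (comm_all hK q)

end

theorem preservesColimitsOfShape_functorH {Λ : Type u} [SmallCategory Λ] [IsFiltered Λ] (hS : SFam S)
    (h : ∃ K, S K ∧ Epi (terminal.from K)) (q : ℕ) :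
    PreservesColimitsOfShape Λ (Sheaf.functorH J q : Sheaf J AddCommGrpCat.{u} ⥤ AddCommGrpCat.{u}) := by
  haveI hp : PreservesColimitsOfShape Λ ((Abelian.extFunctor.{u} q).obj
      (Opposite.op ((constantSheaf J AddCommGrpCat.{u}).obj (AddCommGrpCat.of (ULift.{u} ℤ))))) :=
    ⟨fun {D} => ((comm_all hS (STerm.terminal h) q D).of_iso nonempty_freeSh_terminal_iso_const.some).preservesColimit⟩
  exact preservesColimitsOfShape_of_natIso (NatIso.ofComponents (fun F => Iso.refl _) (fun {F G} f => by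
    ext x
    rfl) : (Abelian.extFunctor.{u} q).obj
      (Opposite.op ((constantSheaf J AddCommGrpCat.{u}).obj (AddCommGrpCat.of (ULift.{u} ℤ)))) ≅ Sheaf.functorH J q)

end Groth.Agent.SFamColim
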