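import Groth.Agent.ToposFinLib.CovColim
import Mathlib.CategoryTheory.Limits.Constructions.Filtered

/-!
# Coproducts on a collection of objects with finite coverings
-/

set_option autoImplicit false
set_option backward.isDefEq.respectTransparency false
set_option linter.style.haveILetI false

universe u

open CategoryTheory CategoryTheory.Limits Opposite Abelian Groth.Agent.SiteBase

namespace Groth.Agent.CovColim

variable {C : Type u} [SmallCategory C] [HasPullbacks C] {J : GrothendieckTopology C} (S : CovSys J) {I : Type u}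

include S in
/-- Sections of a coproduct over a member factor through a finite partial coproduct. -/
theorem exists_finite_support {U : C} (hU : U ∈ S.B) (N : I → Sheaf J AddCommGrpCat.{u})
    (s : (∐ N).obj.obj (op U)) :
    ∃ (t : Finset (Discrete I)) (a : ((CoproductsFromFiniteFiltered.liftToFinsetObj (Discrete.functor N)).obj t).obj.obj (op U)),
      (((CoproductsFromFiniteFiltered.finiteSubcoproductsCocone N).ι.app t).hom.app (op U)).hom a = s := by
  let D := CoproductsFromFiniteFiltered.liftToFinsetObj (Discrete.functor N)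
  have hc := CoproductsFromFiniteFiltered.isColimitFiniteSubproductsCocone N
  let e := hc.coconePointUniqueUpToIso (colimit.isColimit D)
  obtain ⟨t, a, ha⟩ := exists_stage D S hU ((e.hom.hom.app (op U)).hom s)
  refine ⟨t, a, ?_⟩
  have h1 : (CoproductsFromFiniteFiltered.finiteSubcoproductsCocone N).ι.app t = colimit.ι D t ≫ e.inv :=
    (hc.comp_coconePointUniqueUpToIso_inv (colimit.isColimit D) t).symm
  rw [h1]
  show ((e.inv.hom.app (op U)).hom (cl D t U a)) = s
  rw [ha]
  exact congrArg (fun q : ∐ N ⟶ ∐ N => (q.hom.app (op U)).hom s) e.hom_inv_id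

include S in
/-- Coproducts of sheaves acyclic on the collection are acyclic. -/
theorem subsingleton_EH_sigma {U : C} (hU : U ∈ S.B) (N : I → Sheaf J AddCommGrpCat.{u}) (q : ℕ)
    (h : ∀ i, Subsingleton (EH (N i) q U)) : Subsingleton (EH (∐ N) q U) := by
  let D := CoproductsFromFiniteFiltered.liftToFinsetObj (Discrete.functor N)
  have hc := CoproductsFromFiniteFiltered.isColimitFiniteSubproductsCocone N
  let e := hc.coconePointUniqueUpToIso (colimit.isColimit D)
  have hfin : ∀ t, Subsingleton (EH (D.obj t) q U) := fun t => by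
    classical
    refine subsingleton_of_forall_eq 0 fun x => ?_
    let M : t → Sheaf J AddCommGrpCat.{u} := fun k => N k.1.as
    let p : ∀ k : t, (∐ M) ⟶ M k := fun k =>
      Sigma.desc fun j => if h : j = k then eqToHom (by rw [h]) else 0
    have hid : ∑ k : t, p k ≫ Sigma.ι M k = 𝟙 (∐ M) := by
      refine Sigma.hom_ext _ _ fun j => ?_
      rw [Preadditive.comp_sum, Category.comp_id, Finset.sum_eq_single j]
      · simp [p]
      · intro k _ hk
        simp [p, Ne.symm hk]
      · simp
    let x' : Ext (CohCx.freeSheaf J U) (∐ M) q := x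
    have hx : x' = x'.comp (Ext.mk₀ (∑ k : t, p k ≫ Sigma.ι M k)) (add_zero q) := by
      rw [hid, Ext.comp_mk₀_id]
    show x' = 0
    rw [hx, Ext.mk₀_sum, Ext.comp_sum]
    refine Finset.sum_eq_zero fun k _ => ?_
    rw [← Ext.mk₀_comp_mk₀, ← Ext.comp_assoc_of_second_deg_zero,
      show x'.comp (Ext.mk₀ (p k)) (add_zero q) = 0 from (h _).elim _ _, Ext.zero_comp]
  refine subsingleton_of_forall_eq 0 fun x => ?_
  obtain ⟨t, y, hy⟩ := (comm_cov S q hU D).surj (Ext.comp x (Ext.mk₀ e.hom) (add_zero q))
  rw [show y = 0 from (hfin t).elim _ _, Ext.zero_comp] at hy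
  have : x = Ext.comp (Ext.comp x (Ext.mk₀ e.hom) (add_zero q)) (Ext.mk₀ e.inv) (add_zero q) := by
    rw [Ext.comp_assoc_of_second_deg_zero, Ext.mk₀_comp_mk₀, e.hom_inv_id]
    exact (Ext.comp_mk₀_id x).symm
  rw [this, ← hy, Ext.zero_comp]

end Groth.Agent.CovColim
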