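import Groth.Agent.ToposFinLib.ExtColim

/-!
# The induction step for cohomology and filtered colimits, with arbitrary source
-/

set_option autoImplicit false
set_option backward.isDefEq.respectTransparency false
set_option linter.unusedVariables false

universe u

open CategoryTheory CategoryTheory.Limits Opposite ToposFin Simplicial Abelian Groth.Agent.SiteBase

namespace Groth.Agent.ToposFinLib

variable {C : Type u} [SmallCategory C] {J : GrothendieckTopology C} {Λ : Type u} [SmallCategory Λ] [IsFiltered Λ]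

theorem comm_succ_of {P : Sheaf J AddCommGrpCat.{u}} (q : ℕ) (ih : ∀ D : Λ ⥤ Sheaf J AddCommGrpCat.{u}, Comm P q D)
    (D : Λ ⥤ Sheaf J AddCommGrpCat.{u}) (hI : Subsingleton (Ext P (colimit (cofreeInj D)) (q + 1))) :
    Comm P (q + 1) D := by
  have hSc := shortExact_colimSES D
  refine ⟨fun x => ?_, fun i y hy => ?_⟩
  · obtain ⟨z, hz⟩ := Ext.covariant_sequence_exact₁ P hSc x (hI.elim _ _) (rfl : q + 1 = q + 1)
    obtain ⟨i, w, hw⟩ := (ih (cokernel (toCofreeInj D))).surj z
    refine ⟨i, w.comp (shortExact_stageSES D i).extClass rfl, ?_⟩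
    refine (conn_natural (shortExact_stageSES D i) hSc (stageToColim D i) w).trans ?_
    exact (congrArg (fun t => Ext.comp t hSc.extClass rfl) hw).trans hz
  · have : Injective (stageSES D i).X₂ := injective_cofreeInj D i
    obtain ⟨z, hz⟩ := Ext.covariant_sequence_exact₁ P (shortExact_stageSES D i) y
      (haveI := Ext.subsingleton_of_injective P (stageSES D i).X₂ q; Subsingleton.elim _ _)
      (rfl : q + 1 = q + 1)
    subst hz
    have h0 : (z.comp (Ext.mk₀ (stageToColim D i).τ₃) (add_zero q)).comp hSc.extClass rfl = 0 :=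
      (conn_natural (shortExact_stageSES D i) hSc (stageToColim D i) z).symm.trans hy
    obtain ⟨a, ha⟩ := Ext.covariant_sequence_exact₃ P hSc _ rfl h0
    obtain ⟨j, b, hb⟩ := (ih (cofreeInj D)).surj a
    obtain ⟨k, f, g, -⟩ : ∃ (k : Λ) (f : i ⟶ k) (g : j ⟶ k), True :=
      ⟨IsFiltered.max i j, IsFiltered.leftToMax i j, IsFiltered.rightToMax i j, trivial⟩
    let r := (b.comp (Ext.mk₀ ((cofreeInj D).map g)) (add_zero q)).comp (Ext.mk₀ (stageSES D k).g) (add_zero q)
    let s := z.comp (Ext.mk₀ (stageMap D f).τ₃) (add_zero q)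
    have hrs : (s - r).comp (Ext.mk₀ (colimit.ι (cokernel (toCofreeInj D)) k)) (add_zero q) = 0 := by
      rw [sub_eq_add_neg, Ext.add_comp, Ext.neg_comp, ← sub_eq_add_neg, sub_eq_zero]
      simp only [r, s, Ext.comp_assoc_of_third_deg_zero, Ext.mk₀_comp_mk₀]
      refine Eq.trans (congrArg (fun t => z.comp (Ext.mk₀ t) (add_zero q))
        (colimit.w (cokernel (toCofreeInj D)) f)) (ha.symm.trans ?_)
      rw [← hb, Ext.comp_assoc_of_third_deg_zero, Ext.mk₀_comp_mk₀]
      refine congrArg (fun t => b.comp (Ext.mk₀ t) (add_zero q)) ?_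
      exact ((congrArg (· ≫ (colimSES D).g) (colimit.w (cofreeInj D) g).symm).trans (Category.assoc _ _ _)).trans
        (congrArg ((cofreeInj D).map g ≫ ·) (stageToColim D k).comm₂₃)
    obtain ⟨l, t, ht⟩ := (ih (cokernel (toCofreeInj D))).inj k (s - r) hrs
    refine ⟨l, f ≫ t, ?_⟩
    have h1 := conn_natural (shortExact_stageSES D i) (shortExact_stageSES D l) (stageMap D (f ≫ t)) z
    refine h1.trans ?_
    have h2 : z.comp (Ext.mk₀ (stageMap D (f ≫ t)).τ₃) (add_zero q) =
        ((b.comp (Ext.mk₀ ((cofreeInj D).map (g ≫ t))) (add_zero q)).comp (Ext.mk₀ (stageSES D l).g) (add_zero q)) := by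
      rw [sub_eq_add_neg, Ext.add_comp, Ext.neg_comp, ← sub_eq_add_neg, sub_eq_zero] at ht
      simp only [r, s, Ext.comp_assoc_of_third_deg_zero, Ext.mk₀_comp_mk₀] at ht
      rw [Ext.comp_assoc_of_third_deg_zero, Ext.mk₀_comp_mk₀]
      refine Eq.trans (congrArg (fun w => z.comp (Ext.mk₀ w) (add_zero q))
        ((cokernel (toCofreeInj D)).map_comp f t)) (ht.trans ?_)
      refine congrArg (fun w => b.comp (Ext.mk₀ w) (add_zero q)) ?_
      rw [Functor.map_comp, Category.assoc, Category.assoc]
      exact congrArg ((cofreeInj D).map g ≫ ·) (stageMap D t).comm₂₃.symm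
    rw [h2, Ext.comp_assoc_of_second_deg_zero, (shortExact_stageSES D l).comp_extClass, Ext.comp_zero]

end Groth.Agent.ToposFinLib
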